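import Mathlib
import Cfsg.Prelude
import Cfsg.Agent.Lib.Char.ThreeTI
import Cfsg.Agent.Lib.SmallSimple.Basic
import Cfsg.Agent.Lib.SylowCountModSq
import Cfsg.Agent.S0840

/-!
Simple groups with an elementary abelian Sylow 3-subgroup of order nine equal to the centraliser
of each of its non-identity elements and more than one class of elements of order three: local
facts and the number of factorisations of an element of the Sylow subgroup (helper3).
-/

set_option autoImplicit false

namespace Cfsg.Agent.Lib.ElemNine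

open Cfsg
open scoped ComplexConjugate

universe u

variable {G : Type u} [Group G] [Finite G]

/-- The hypothesis. -/
structure Hyp (P : Sylow 3 G) : Prop where
  card : Nat.card (P : Subgroup G) = 9
  exp : ∀ a ∈ (P : Subgroup G), a ^ 3 = 1
  comm : ∀ a ∈ (P : Subgroup G), ∀ b ∈ (P : Subgroup G), a * b = b * a
  cent : ∀ s ∈ (P : Subgroup G), s ≠ 1 → Subgroup.centralizer ({s} : Set G) = (P : Subgroup G)
  classes : ∃ a b : G, orderOf a = 3 ∧ orderOf b = 3 ∧ ¬ IsConj a b

variable {P : Sylow 3 G}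

theorem Hyp.orderOf_eq (h : Hyp P) {s : G} (hs : s ∈ (P : Subgroup G)) (hs1 : s ≠ 1) : orderOf s = 3 :=
  orderOf_eq_prime (hp := ⟨Nat.prime_three⟩) (h.exp s hs) hs1

theorem Hyp.mem_of_comm (h : Hyp P) {s g : G} (hs : s ∈ (P : Subgroup G)) (hs1 : s ≠ 1)
    (hg : g * s = s * g) : g ∈ (P : Subgroup G) :=
  h.cent s hs hs1 ▸ Subgroup.mem_centralizer_singleton_iff.2 hg

theorem Hyp.centralizer_eq (h : Hyp P) :
    Subgroup.centralizer ((P : Subgroup G) : Set G) = (P : Subgroup G) := by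
  haveI : Fact (Nat.Prime 3) := ⟨Nat.prime_three⟩
  obtain ⟨s, hs, hs1⟩ : ∃ s ∈ (P : Subgroup G), s ≠ 1 := by
    by_contra hcon
    push Not at hcon
    have := Subgroup.card_eq_one.2 ((Subgroup.eq_bot_iff_forall _).2 hcon)
    rw [h.card] at this
    omega
  refine le_antisymm ?_ fun a ha => Subgroup.mem_centralizer_iff.2 fun b hb => h.comm b hb a ha
  exact (Subgroup.centralizer_le (Set.singleton_subset_iff.2 hs)).trans (h.cent s hs hs1).le

/-- Every element of order three is conjugate into the Sylow subgroup. -/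
theorem Hyp.exists_conj (_h : Hyp P) {a : G} (ha : orderOf a = 3) :
    ∃ s ∈ (P : Subgroup G), s ≠ 1 ∧ IsConj a s := by
  haveI : Fact (Nat.Prime 3) := ⟨Nat.prime_three⟩
  have hp : IsPGroup 3 (Subgroup.zpowers a) :=
    IsPGroup.of_card (n := 1) (by rw [Nat.card_zpowers, ha, pow_one])
  obtain ⟨Q, hQ⟩ := hp.exists_le_sylow
  obtain ⟨g, hg⟩ := MulAction.exists_smul_eq G Q P
  have h1 : g * a * g⁻¹ ∈ (P : Subgroup G) := by
    rw [← hg]
    exact ⟨a, hQ (Subgroup.mem_zpowers a), rfl⟩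
  refine ⟨_, h1, fun e => ?_, isConj_iff.2 ⟨g, rfl⟩⟩
  rw [conj_eq_one_iff] at e
  rw [e, orderOf_one] at ha
  omega

/-- The centraliser of an element of order three is abelian, and the element lies in it. -/
theorem Hyp.cent_comm (h : Hyp P) {w : G} (hw : orderOf w = 3) {u v : G}
    (hu : u * w = w * u) (hv : v * w = w * v) : u * v = v * u ∧ u ^ 3 = 1 := by
  obtain ⟨s, hs, hs1, hc⟩ := h.exists_conj hw
  obtain ⟨g, hg⟩ := isConj_iff.1 hc
  have hm : ∀ z : G, z * w = w * z → g * z * g⁻¹ ∈ (P : Subgroup G) := fun z hz => by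
    refine h.mem_of_comm hs hs1 ?_
    rw [← hg]
    calc g * z * g⁻¹ * (g * w * g⁻¹) = g * (z * w) * g⁻¹ := by group
      _ = g * (w * z) * g⁻¹ := by rw [hz]
      _ = _ := by group
  constructor
  · have := h.comm _ (hm u hu) _ (hm v hv)
    rw [← mul_right_inj g, ← mul_left_inj g⁻¹]
    calc g * (u * v) * g⁻¹ = g * u * g⁻¹ * (g * v * g⁻¹) := by group
      _ = g * v * g⁻¹ * (g * u * g⁻¹) := this
      _ = _ := by group
  · have := h.exp _ (hm u hu)
    rwa [conj_pow, conj_eq_one_iff] at this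

/-- If two elements of order three have a product of order three and do not commute, then they are
conjugate and their product is conjugate to the inverse of either. -/
theorem commute_or_conj (h : Hyp P) {x y : G} (hx : orderOf x = 3) (hy : orderOf y = 3)
    (hxy : orderOf (x * y) = 3) : x * y = y * x ∨ (IsConj y x ∧ IsConj (x * y) x⁻¹) := by
  classical
  haveI : Fact (Nat.Prime 3) := ⟨Nat.prime_three⟩
  have hx3 : x * x * x = 1 := by
    have := pow_orderOf_eq_one x; rw [hx, pow_succ, pow_two] at this; exact this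
  have hy3 : y * y * y = 1 := by
    have := pow_orderOf_eq_one y; rw [hy, pow_succ, pow_two] at this; exact this
  have hxy3 : x * y * (x * y) * (x * y) = 1 := by
    have := pow_orderOf_eq_one (x * y); rw [hxy, pow_succ, pow_two] at this; exact this
  have hxi : x⁻¹ = x * x := inv_eq_of_mul_eq_one_right (by rw [← mul_assoc, hx3])
  have hyi : y⁻¹ = y * y := inv_eq_of_mul_eq_one_right (by rw [← mul_assoc, hy3])
  set a := x⁻¹ * y with ha
  set b := y * x⁻¹ with hb
  have hxa : x * a * x⁻¹ = b := by rw [ha, hb]; group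
  have hxb : x * b * x⁻¹ = x * y * x := by
    rw [hb, show x * (y * x⁻¹) * x⁻¹ = x * y * (x⁻¹ * x⁻¹) by group, ← mul_inv_rev, ← hxi, inv_inv]
  have habc : a * b * (x * y * x) = 1 := by
    rw [ha, hb, show x⁻¹ * y * (y * x⁻¹) * (x * y * x) = x⁻¹ * (y * y * y) * x by group, hy3]
    group
  have hcba : x * y * x * b * a = 1 := by
    rw [ha, hb, show x * y * x * (y * x⁻¹) * (x⁻¹ * y) = x * y * (x * y) * ((x⁻¹ * x⁻¹) * y) by group,
      ← mul_inv_rev, ← hxi, inv_inv, hxy3]
  have hab : a * b = b * a := by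
    have e1 : a * b = (x * y * x)⁻¹ := eq_inv_of_mul_eq_one_left habc
    have e2 : b * a = (x * y * x)⁻¹ := eq_inv_of_mul_eq_one_right (by rw [← mul_assoc]; exact hcba)
    rw [e1, e2]
  set A := Subgroup.closure ({a, b} : Set G) with hA
  have haA : a ∈ A := Subgroup.subset_closure (by simp)
  have hbA : b ∈ A := Subgroup.subset_closure (by simp)
  have hAcomm : ∀ u ∈ A, ∀ v ∈ A, u * v = v * u := by
    have h1 : A ≤ Subgroup.centralizer ({a, b} : Set G) := by
      rw [hA, Subgroup.closure_le]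
      rintro u (rfl | rfl) <;> refine Subgroup.mem_centralizer_iff.2 ?_ <;> rintro v (rfl | rfl)
      · rfl
      · exact hab.symm
      · exact hab
      · rfl
    intro u hu v hv
    have h2 : A ≤ Subgroup.centralizer ({u} : Set G) := by
      rw [hA, Subgroup.closure_le]
      exact fun w hw => Subgroup.mem_centralizer_singleton_iff.2 (Subgroup.mem_centralizer_iff.1 (h1 hu) w hw)
    exact (Subgroup.mem_centralizer_singleton_iff.1 (h2 hv)).symm
  have hAx : ∀ u ∈ A, x * u * x⁻¹ ∈ A := by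
    intro u hu
    have h1 : A ≤ A.comap (MulAut.conj x).toMonoidHom := by
      conv_lhs => rw [hA]
      rw [Subgroup.closure_le]
      rintro w (rfl | rfl)
      · show x * a * x⁻¹ ∈ A
        rw [hxa]; exact hbA
      · show x * b * x⁻¹ ∈ A
        rw [hxb, show x * y * x = (a * b)⁻¹ from eq_inv_of_mul_eq_one_right habc]
        exact inv_mem (mul_mem haA hbA)
    exact h1 hu
  by_cases hfix : ∃ u ∈ A, u ≠ 1 ∧ u * x = x * u
  · left
    obtain ⟨u, hu, hu1, hux⟩ := hfix
    have hu3 : orderOf u = 3 := orderOf_eq_prime (h.cent_comm hx hux rfl).2 hu1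
    have := (h.cent_comm hu3 hux.symm (hAcomm a haA u hu)).1
    have hy' : y = x * a := by rw [ha]; group
    rw [hy']
    calc x * (x * a) = x * (a * x) := by rw [this]
      _ = x * a * x := (mul_assoc _ _ _).symm
  · right
    push Not at hfix
    have hinj : Function.Injective (fun u : A => (⟨(u : G)⁻¹ * (x⁻¹ * u * x), mul_mem (inv_mem u.2) (by
        have := hAx _ (hAx _ u.2)
        rwa [show x * (x * (u : G) * x⁻¹) * x⁻¹ = (x * x) * (u : G) * (x * x)⁻¹ by group, ← hxi,
          inv_inv] at this)⟩ : A)) := by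
      intro u v huv
      have e : (u : G)⁻¹ * (x⁻¹ * u * x) = (v : G)⁻¹ * (x⁻¹ * v * x) := congrArg Subtype.val huv
      have e2 : (v : G) * (u : G)⁻¹ * x = x * ((v : G) * (u : G)⁻¹) := by
        have e3 : (v : G) * (u : G)⁻¹ * x⁻¹ * u = x⁻¹ * v := by
          calc (v : G) * (u : G)⁻¹ * x⁻¹ * u = v * ((u : G)⁻¹ * (x⁻¹ * u * x)) * x⁻¹ := by group
            _ = v * ((v : G)⁻¹ * (x⁻¹ * v * x)) * x⁻¹ := by rw [e]
            _ = x⁻¹ * v := by group
        calc (v : G) * (u : G)⁻¹ * x = x * (x⁻¹ * v) * (u : G)⁻¹ * x := by group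
          _ = x * ((v : G) * (u : G)⁻¹ * x⁻¹ * u) * (u : G)⁻¹ * x := by rw [e3]
          _ = _ := by group
      have := hfix _ (mul_mem v.2 (inv_mem u.2))
      exact Subtype.ext (mul_inv_eq_one.1 (by_contra fun hne => this hne e2)).symm
    have hsurj := (Finite.injective_iff_surjective.1 hinj)
    have conjx : ∀ z ∈ A, IsConj (x * z) x := by
      intro z hz
      obtain ⟨v, hv⟩ := hsurj ⟨z, hz⟩
      have hv' : (v : G)⁻¹ * (x⁻¹ * v * x) = z := congrArg Subtype.val hv
      refine (isConj_iff.2 ⟨(v : G), ?_⟩ : IsConj x (x * z)).symm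
      rw [← hv']
      calc (v : G) * x * (v : G)⁻¹ = (v : G) * (x * (v : G)⁻¹ * x⁻¹) * x := by group
        _ = (x * (v : G)⁻¹ * x⁻¹) * (v : G) * x := by rw [hAcomm _ v.2 _ (hAx _ (inv_mem v.2))]
        _ = x * ((v : G)⁻¹ * (x⁻¹ * v * x)) := by group
    refine ⟨?_, ?_⟩
    · have := conjx a haA
      rwa [ha, mul_inv_cancel_left] at this
    · have h1 : x⁻¹ * a⁻¹ * x ∈ A := by
        have := hAx _ (hAx _ (inv_mem haA))
        rwa [show x * (x * a⁻¹ * x⁻¹) * x⁻¹ = (x * x) * a⁻¹ * (x * x)⁻¹ by group, ← hxi, inv_inv] at this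
      obtain ⟨g, hg⟩ := isConj_iff.1 (conjx _ h1)
      refine isConj_iff.2 ⟨g, ?_⟩
      have e : x * y = (x * (x⁻¹ * a⁻¹ * x))⁻¹ := by
        rw [show x * (x⁻¹ * a⁻¹ * x) = a⁻¹ * x by group, mul_inv_rev, inv_inv, ha, ← mul_assoc, hxi,
          mul_assoc (x * x) (x * x) y, show x * x * (x * x * y) = (x * x * x) * (x * y) by group, hx3, one_mul]
      rw [e]
      calc g * (x * (x⁻¹ * a⁻¹ * x))⁻¹ * g⁻¹ = (g * (x * (x⁻¹ * a⁻¹ * x)) * g⁻¹)⁻¹ := by group
        _ = x⁻¹ := by rw [hg]

/-- A factorisation of an element of the Sylow subgroup not conjugate to the inverse of the first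
factor takes place inside the Sylow subgroup. -/
theorem Hyp.factors_mem (h : Hyp P) {x y t : G} (hx : orderOf x = 3) (hy : orderOf y = 3)
    (ht : t ∈ (P : Subgroup G)) (ht1 : t ≠ 1) (hxy : x * y = t) (hne : ¬ IsConj t x⁻¹) :
    x ∈ (P : Subgroup G) ∧ y ∈ (P : Subgroup G) := by
  have ht3 := h.orderOf_eq ht ht1
  rcases commute_or_conj h hx hy (by rw [hxy]; exact ht3) with h1 | ⟨-, h1⟩
  · have hxP : x ∈ (P : Subgroup G) := h.mem_of_comm ht ht1 (by
      rw [← hxy]; calc x * (x * y) = x * (y * x) := by rw [h1]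
        _ = x * y * x := (mul_assoc _ _ _).symm)
    exact ⟨hxP, by rw [show y = x⁻¹ * t by rw [← hxy]; group]; exact mul_mem (inv_mem hxP) ht⟩
  · exact absurd (hxy ▸ h1) hne

/-- An element of the normaliser whose square lies in the Sylow subgroup inverts it. -/
theorem Hyp.inverts (h : Hyp P) {n : G} (hn : n ∈ Subgroup.normalizer ((P : Subgroup G) : Set G))
    (hnP : n ∉ (P : Subgroup G)) (hn2 : n * n ∈ (P : Subgroup G)) {x : G} (hx : x ∈ (P : Subgroup G)) :
    n * x * n⁻¹ = x⁻¹ := by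
  have hx' : n * x * n⁻¹ ∈ (P : Subgroup G) := (Subgroup.mem_normalizer_iff.1 hn x).1 hx
  have e2 : n * (n * x * n⁻¹) * n⁻¹ = x := by
    rw [show n * (n * x * n⁻¹) * n⁻¹ = (n * n) * x * (n * n)⁻¹ by group, h.comm _ hn2 _ hx, mul_inv_cancel_right]
  have e3 : x * (n * x * n⁻¹) = 1 := by
    by_contra hne
    refine hnP (h.mem_of_comm (mul_mem hx hx') hne ?_)
    have : n * (x * (n * x * n⁻¹)) * n⁻¹ = x * (n * x * n⁻¹) := by
      calc n * (x * (n * x * n⁻¹)) * n⁻¹ = (n * x * n⁻¹) * (n * (n * x * n⁻¹) * n⁻¹) := by group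
        _ = (n * x * n⁻¹) * x := by rw [e2]
        _ = _ := h.comm _ hx' _ hx
    exact mul_inv_eq_iff_eq_mul.1 this
  exact (eq_inv_of_mul_eq_one_right e3)

end Cfsg.Agent.Lib.ElemNine
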