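import Cfsg.Agent.Lib.ElemNine.Basic

/-!
The principal 3-block of such a group and the number of factorisations (helper3).
-/

set_option autoImplicit false

namespace Cfsg.Agent.Lib.ElemNine

open Cfsg
open scoped ComplexConjugate

universe u

variable {G : Type u} [Group G] [Finite G] {P : Sylow 3 G}

/-- The index of the centralizer of the Sylow subgroup in its normalizer. -/
noncomputable def quot (P : Sylow 3 G) : ℕ :=
  (Subgroup.centralizer ((P : Subgroup G) : Set G)).relIndex (Subgroup.normalizer ((P : Subgroup G) : Set G))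

theorem Hyp.frob (h : Hyp P) : ∀ y : G, y ∈ (P : Subgroup G) → y ≠ 1 →
    Subgroup.centralizer ({y} : Set G) ⊓ Subgroup.normalizer ((P : Subgroup G) : Set G) =
      Subgroup.centralizer ((P : Subgroup G) : Set G) := by
  intro y hy hy1
  rw [h.cent y hy hy1, h.centralizer_eq]
  exact inf_eq_left.2 Subgroup.le_normalizer

theorem Hyp.fused (h : Hyp P) {y y' : G} (hy : y ∈ (P : Subgroup G)) (hy' : y' ∈ (P : Subgroup G))
    (hc : IsConj y y') : ∃ n ∈ Subgroup.normalizer ((P : Subgroup G) : Set G), n * y * n⁻¹ = y' :=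
  haveI : Fact (Nat.Prime 3) := ⟨Nat.prime_three⟩
  Lib.Char.ATI.fusion P h.comm hy hy' hc

theorem Hyp.card_normalizer (h : Hyp P) :
    Nat.card (Subgroup.normalizer ((P : Subgroup G) : Set G)) = 9 * quot P := by
  have hle : Subgroup.centralizer ((P : Subgroup G) : Set G) ≤ Subgroup.normalizer ((P : Subgroup G) : Set G) :=
    Subgroup.centralizer_le_normalizer _
  have := ((Subgroup.centralizer ((P : Subgroup G) : Set G)).subgroupOf
    (Subgroup.normalizer ((P : Subgroup G) : Set G))).card_mul_index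
  rw [Nat.card_congr (Subgroup.subgroupOfEquivOfLe hle).toEquiv, h.centralizer_eq, h.card] at this
  rw [← this, quot, h.centralizer_eq]; rfl

/-- The number of cosets of the Sylow subgroup in its normalizer is less than eight. -/
theorem Hyp.quot_lt (h : Hyp P) : quot P < 8 := by
  classical
  haveI : Fact (Nat.Prime 3) := ⟨Nat.prime_three⟩
  obtain ⟨a, b, ha, hb, hab⟩ := h.classes
  obtain ⟨s, hs, hs1, hsa⟩ := h.exists_conj ha
  obtain ⟨t, ht, ht1, htb⟩ := h.exists_conj hb
  set N := Subgroup.normalizer ((P : Subgroup G) : Set G)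
  set O : Set G := {y | ∃ n ∈ N, n * s * n⁻¹ = y}
  haveI := Fintype.ofFinite G
  -- the fibres of the orbit map have nine elements
  have hcount : Nat.card N = 9 * Nat.card O := by
    have h1 : Nat.card N = ∑ y ∈ O.toFinset,
        ((Finset.univ.filter fun n : G => n ∈ N).filter fun n => n * s * n⁻¹ = y).card := by
      rw [Nat.card_eq_fintype_card, Fintype.card_subtype]
      refine Finset.card_eq_sum_card_fiberwise fun n hn => ?_
      exact Set.mem_toFinset.2 ⟨n, (Finset.mem_filter.1 hn).2, rfl⟩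
    have h2 : ∀ y ∈ O.toFinset,
        ((Finset.univ.filter fun n : G => n ∈ N).filter fun n => n * s * n⁻¹ = y).card = 9 := by
      intro y hy
      obtain ⟨n₀, hn₀, rfl⟩ := Set.mem_toFinset.1 hy
      rw [← h.card, ← Nat.card_eq_finsetCard]
      refine Nat.card_congr ⟨fun n => ⟨n₀⁻¹ * n.1, ?_⟩, fun c => ⟨n₀ * c.1, ?_⟩, fun n => ?_, fun c => ?_⟩
      · have hn := Finset.mem_filter.1 n.2
        refine h.mem_of_comm hs hs1 ?_
        calc n₀⁻¹ * n.1 * s = n₀⁻¹ * (n.1 * s * n.1⁻¹) * n.1 := by group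
          _ = n₀⁻¹ * (n₀ * s * n₀⁻¹) * n.1 := by rw [hn.2]
          _ = s * (n₀⁻¹ * n.1) := by group
      · refine Finset.mem_filter.2 ⟨Finset.mem_filter.2 ⟨Finset.mem_univ _,
          mul_mem hn₀ (Subgroup.le_normalizer c.2)⟩, ?_⟩
        calc n₀ * c.1 * s * (n₀ * c.1)⁻¹ = n₀ * (c.1 * s * c.1⁻¹) * n₀⁻¹ := by group
          _ = _ := by rw [h.comm _ c.2 _ hs, mul_inv_cancel_right]
      · exact Subtype.ext (mul_inv_cancel_left _ _)
      · exact Subtype.ext (inv_mul_cancel_left _ _)
    rw [h1, Finset.sum_congr rfl h2, Finset.sum_const, smul_eq_mul, mul_comm]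
    congr 1
    rw [Set.toFinset_card, Nat.card_eq_fintype_card]
  have hlt : Nat.card O < 8 := by
    have hO : O ⊂ (((P : Subgroup G) : Set G) \ {1}) := by
      refine Set.ssubset_iff_subset_ne.2 ⟨?_, fun e => ?_⟩
      · rintro - ⟨n, hn, rfl⟩
        refine ⟨(Subgroup.mem_normalizer_iff.1 hn s).1 hs, fun e => hs1 ?_⟩
        simpa using e
      · have htO : t ∈ O := by rw [e]; exact ⟨ht, by simpa using ht1⟩
        obtain ⟨n, -, hn⟩ := htO
        exact hab (hsa.trans ((isConj_iff.2 ⟨n, hn⟩).trans htb.symm))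
    have := Set.ncard_lt_ncard hO
    rw [Set.ncard_diff (by simp [(P : Subgroup G).one_mem]), Set.ncard_singleton] at this
    have h9 : ((P : Subgroup G) : Set G).ncard = 9 := by rw [← Nat.card_coe_set_eq]; exact h.card
    rw [h9, ← Nat.card_coe_set_eq] at this
    omega
  have h2 : Nat.card N = 9 * quot P := h.card_normalizer
  omega

/-- Characters outside the principal block vanish on the Sylow subgroup, and the structure
constants only involve that block. -/
theorem Hyp.count (h : Hyp P) [Fintype G] {M : Ideal AlgInt} (hM : IsPModular 3 M)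
    (B : Finset (IrrCharacter G)) (hB : ∀ χ, χ ∈ B ↔ χ ∈ principalBlock M G)
    {a b c : G} (ha : a ∈ (P : Subgroup G)) (ha1 : a ≠ 1) (hb : b ∈ (P : Subgroup G)) (hb1 : b ≠ 1) :
    81 * (Nat.card {p : G × G // IsConj a p.1 ∧ IsConj b p.2 ∧ p.1 * p.2 = c} : ℂ) =
      (Nat.card G : ℂ) * ∑ χ ∈ B, (χ : G → ℂ) a * (χ : G → ℂ) b * conj ((χ : G → ℂ) c) / (χ : G → ℂ) 1 := by
  classical
  haveI : Fact (Nat.Prime 3) := ⟨Nat.prime_three⟩
  haveI := hM.2.1
  have hcent : ∀ s ∈ (P : Subgroup G), s ≠ 1 →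
      (Nat.card {x : G // IsConj s x} : ℂ) * 9 = Nat.card G := by
    intro s hs hs1
    have h1 : Nat.card {x : G // IsConj s x} = (Subgroup.centralizer ({s} : Set G)).index := by
      rw [← Lib.Char.card_conjClass_eq_index, Nat.card_eq_fintype_card, Fintype.card_subtype]
      exact congrArg Finset.card (Finset.filter_congr fun x _ => ⟨IsConj.symm, IsConj.symm⟩)
    have h2 := (Subgroup.centralizer ({s} : Set G)).card_mul_index
    rw [h.cent s hs hs1, h.card] at h2
    rw [h1, h.cent s hs hs1, ← h2]; push_cast; ring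
  have hvan : ∀ χ : IrrCharacter G, χ ∉ B → (χ : G → ℂ) a = 0 := by
    have h1 := Lib.Char.ATI.column_orth P hM h.comm h.frob B hB ha ha1 ha
    have h2 := Lib.CharTools.sum_irr_mul_conj' (G := G) a a
    rw [if_pos (IsConj.refl a), h.cent a ha ha1, h.card] at h2
    rw [h.centralizer_eq, h.card] at h1
    have h3 : (Finset.univ.filter fun n : G =>
        n ∈ Subgroup.normalizer ((P : Subgroup G) : Set G) ∧ n * a * n⁻¹ = a).card = 9 := by
      rw [← h.card, ← Nat.card_eq_finsetCard]
      refine Nat.card_congr (Equiv.subtypeEquivRight fun n => ?_)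
      simp only [Finset.mem_filter, Finset.mem_univ, true_and]
      exact ⟨fun hn => h.mem_of_comm ha ha1 (mul_inv_eq_iff_eq_mul.1 hn.2),
        fun hn => ⟨Subgroup.le_normalizer hn, by rw [h.comm _ hn _ ha, mul_inv_cancel_right]⟩⟩
    rw [h3] at h1
    have h4 : ∑ χ ∈ B, (χ : G → ℂ) a * conj ((χ : G → ℂ) a) = 9 := by
      push_cast at h1
      linear_combination h1 / 9
    rw [← Finset.sum_add_sum_compl B, h4] at h2
    have h5 : ∑ χ ∈ Bᶜ, Complex.normSq ((χ : G → ℂ) a) = 0 := by
      have h6 : ((∑ χ ∈ Bᶜ, Complex.normSq ((χ : G → ℂ) a) : ℝ) : ℂ) = 0 := by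
        rw [Complex.ofReal_sum]
        refine Eq.trans (Finset.sum_congr rfl fun χ _ => (Complex.mul_conj ((χ : G → ℂ) a)).symm) ?_
        linear_combination h2
      exact_mod_cast h6
    intro χ hχ
    exact Complex.normSq_eq_zero.1
      ((Finset.sum_eq_zero_iff_of_nonneg fun _ _ => Complex.normSq_nonneg _).1 h5 χ (Finset.mem_compl.2 hχ))
  rw [S0840.result a b c, finsum_eq_sum_of_fintype,
    ← Finset.sum_subset (Finset.subset_univ B) (fun χ _ hχ => by rw [hvan χ hχ]; simp)]
  have hG : (Nat.card G : ℂ) ≠ 0 := Nat.cast_ne_zero.2 Nat.card_pos.ne'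
  have e1 := hcent a ha ha1
  have e2 := hcent b hb hb1
  generalize ∑ χ ∈ B, (χ : G → ℂ) a * (χ : G → ℂ) b * conj ((χ : G → ℂ) c) / (χ : G → ℂ) 1 = S
  generalize (Nat.card {x : G // IsConj a x} : ℂ) = x at e1
  generalize (Nat.card {x : G // IsConj b x} : ℂ) = y at e2
  field_simp
  linear_combination (S * y * 9) * e1 + (S * (Nat.card G : ℂ)) * e2

/-- In a group without a normal subgroup of index divisible by three the quotient is not trivial. -/
theorem Hyp.one_lt_quot (h : Hyp P) [IsSimpleGroup G] (hna : ¬ IsMulCommutative G) : 1 < quot P := by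
  haveI : Fact (Nat.Prime 3) := ⟨Nat.prime_three⟩
  have h3 : 3 ∣ Nat.card G := by
    have := (P : Subgroup G).card_subgroup_dvd_card
    rw [h.card] at this
    exact (dvd_mul_right 3 3).trans this
  have h1 := Lib.SmallSimple.not_normalizer_le_centralizer hna P h3
  have h0 : quot P ≠ 0 := by
    intro e
    have := h.card_normalizer
    rw [e, mul_zero] at this
    exact Nat.card_pos.ne' this
  have h2 : quot P ≠ 1 := fun e => h1 (Subgroup.relIndex_eq_one.1 e)
  omega

/-- The degree of an exceptional or non-exceptional character, modulo nine. -/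
theorem Hyp.degree_mod (h : Hyp P) [Fintype G] (χ : IrrCharacter G) {a : ℤ}
    (ha : ∀ y : G, y ∈ (P : Subgroup G) → y ≠ 1 → (χ : G → ℂ) y = a) :
    ∃ k : ℤ, (charDegree (χ : G → ℂ) : ℤ) = 9 * k + a := by
  classical
  obtain ⟨m, hm⟩ := Lib.CharTools.exists_nat_sum_subgroup (Lib.Char.isCharacter_of_isIrr χ.2) (P : Subgroup G)
  have h1 : ∑ x ∈ Finset.univ.filter (fun x : G => x ∈ (P : Subgroup G)), (χ : G → ℂ) x =
      (charDegree (χ : G → ℂ) : ℂ) + 8 * a := by
    rw [← Finset.add_sum_erase _ _ (Finset.mem_filter.2 ⟨Finset.mem_univ (1 : G), one_mem (P : Subgroup G)⟩),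
      Lib.CharAux.charDegree_eq (Lib.Char.isCharacter_of_isIrr χ.2)]
    congr 1
    rw [Finset.sum_congr rfl (g := fun _ => (a : ℂ)) (fun x hx => by
      obtain ⟨hx1, hx2⟩ := Finset.mem_erase.1 hx
      exact ha x (Finset.mem_filter.1 hx2).2 hx1), Finset.sum_const, Finset.card_erase_of_mem
      (Finset.mem_filter.2 ⟨Finset.mem_univ (1 : G), one_mem (P : Subgroup G)⟩)]
    rw [← Fintype.card_subtype, ← Nat.card_eq_fintype_card, h.card]
    simp
  rw [hm, h.card] at h1
  refine ⟨(m : ℤ) - a, ?_⟩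
  have h2 : ((charDegree (χ : G → ℂ) : ℤ) : ℂ) = ((9 * ((m : ℤ) - a) + a : ℤ) : ℂ) := by
    push_cast
    linear_combination -h1
  exact_mod_cast h2

/-- The number of Sylow 3-subgroups. -/
theorem Hyp.index_normalizer (h : Hyp P) :
    (Subgroup.normalizer ((P : Subgroup G) : Set G)).index % 9 = 1 := by
  classical
  haveI : Fact (Nat.Prime 3) := ⟨Nat.prime_three⟩
  haveI := Fintype.ofFinite (Sylow 3 G)
  have hs : ∀ (a : (P : Subgroup G)), ∀ Q ∈ (Finset.univ : Finset (Sylow 3 G)).erase P,
      a • Q ∈ (Finset.univ : Finset (Sylow 3 G)).erase P := by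
    intro a Q hQ
    refine Finset.mem_erase.2 ⟨fun e => (Finset.mem_erase.1 hQ).1 ?_, Finset.mem_univ _⟩
    rw [← inv_smul_smul a Q, e]
    exact Sylow.smul_eq_iff_mem_normalizer.2 (Subgroup.le_normalizer (inv_mem a.2))
  have hd : ∀ Q ∈ (Finset.univ : Finset (Sylow 3 G)).erase P,
      9 ∣ Nat.card (MulAction.orbit (P : Subgroup G) Q) * 1 := by
    intro Q hQ
    have hstab : MulAction.stabilizer (P : Subgroup G) Q = ⊥ := by
      refine (Subgroup.eq_bot_iff_forall _).2 fun a ha => by_contra fun ha1 => (Finset.mem_erase.1 hQ).1 ?_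
      have haN : (a : G) ∈ Subgroup.normalizer ((Q : Subgroup G) : Set G) :=
        Sylow.smul_eq_iff_mem_normalizer.1 ha
      have hp : IsPGroup 3 (Subgroup.zpowers (a : G)) :=
        P.2.to_le (Subgroup.zpowers_le.2 a.2)
      have haQ : (a : G) ∈ (Q : Subgroup G) := by
        have h1 := IsPGroup.to_sup_of_normal_right' hp Q.2 (Subgroup.zpowers_le.2 haN)
        have h2 := Q.3 h1 le_sup_right
        exact h2 ▸ (le_sup_left : Subgroup.zpowers (a : G) ≤ _) (Subgroup.mem_zpowers _)
      obtain ⟨g, hg⟩ := MulAction.exists_smul_eq G P Q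
      have hle : (Q : Subgroup G) ≤ (P : Subgroup G) := by
        intro q hq
        refine h.mem_of_comm a.2 (fun e => ha1 (Subtype.ext e)) ?_
        rw [← hg] at hq haQ
        obtain ⟨q', hq', rfl⟩ := hq
        obtain ⟨a', ha', e⟩ := haQ
        rw [← e]
        simp only [MulDistribMulAction.toMonoidEnd_apply]
        show (MulAut.conj g) q' * (MulAut.conj g) a' = (MulAut.conj g) a' * (MulAut.conj g) q'
        rw [← map_mul, ← map_mul, h.comm _ hq' _ ha']
      exact Sylow.ext (Subgroup.eq_of_le_of_card_ge hle (by rw [Sylow.card_eq_multiplicity, Sylow.card_eq_multiplicity]))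
    rw [mul_one, Nat.card_coe_set_eq, ← MulAction.index_stabilizer (P : Subgroup G) Q, hstab, Subgroup.index_bot, h.card]
  have h9 := Lib.CountModSq.dvd_sum_orbits 9 (fun _ : Sylow 3 G => 1) (fun _ _ => rfl) _ hs hd
  rw [Finset.sum_const, smul_eq_mul, mul_one, Finset.card_erase_of_mem (Finset.mem_univ _),
    Finset.card_univ, ← Nat.card_eq_fintype_card, Sylow.card_eq_index_normalizer P] at h9
  change 9 ∣ (Subgroup.normalizer ((P : Subgroup G) : Set G)).index - 1 at h9
  have : 0 < (Subgroup.normalizer ((P : Subgroup G) : Set G)).index :=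
    Nat.pos_of_ne_zero Subgroup.index_ne_zero_of_finite
  omega

end Cfsg.Agent.Lib.ElemNine
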