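import Cfsg.Agent.Lib.ElemNine.Chars
import Cfsg.Agent.Lib.Block.Exist
import Cfsg.Agent.Lib.Char.Degree
import Cfsg.Agent.Lib.Char.Linear

/-!
A simple group with such a Sylow 3-subgroup has order 360 (helper3).
-/

set_option autoImplicit false

namespace Cfsg.Agent.Lib.ElemNine

open Cfsg
open scoped ComplexConjugate

universe u

variable {G : Type u} [Group G] [Finite G] {P : Sylow 3 G}

private theorem zmod_three_sq : ∀ x : ZMod 3, x ≠ 0 → x * x = 1 := by decide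

private theorem zmod_three_add : (1 : ZMod 3) + 2 = 0 := by decide

private theorem zmod_three_one : (1 : ZMod 3) ≠ 0 := by decide

private theorem zmod_three_not_mem :
    (((1 : ZMod 3), (1 : ZMod 3))) ∉ [((1 : ZMod 3), (0 : ZMod 3)), (2, 0), (0, 1), (0, 2)] := by
  decide

set_option synthInstance.maxSize 2000 in
private theorem zmod_three_split :
    ∀ a b c e : ZMod 3, (a, b) ∈ [((1 : ZMod 3), (0 : ZMod 3)), (2, 0), (0, 1), (0, 2)] →
      (c, e) ∈ [((1 : ZMod 3), (0 : ZMod 3)), (2, 0), (0, 1), (0, 2)] → a + c = 1 → b + e = 1 →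
      (a = 1 ∧ b = 0 ∧ c = 0 ∧ e = 1) ∨ (a = 0 ∧ b = 1 ∧ c = 1 ∧ e = 0) := by
  decide

/-- The sum of the conjugates of a linear character of the Sylow subgroup. -/
noncomputable def orbSum (P : Sylow 3 G) (ψ : (P : Subgroup G) →* ℂˣ) (y : (P : Subgroup G)) : ℂ :=
  ∑ᶠ ψ' ∈ {ψ' | Lib.Char.ATI.Rel P ψ ψ'}, ((ψ' y : ℂˣ) : ℂ)

theorem Hyp.not_comm (h : Hyp P) [IsSimpleGroup G] : ¬ IsMulCommutative G := by
  haveI : Fact (Nat.Prime 3) := ⟨Nat.prime_three⟩
  intro hc
  refine Lib.SmallSimple.not_isMulCommutative_of_card (G := G) ?_ hc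
  have htop : (P : Subgroup G) = ⊤ := by
    refine (Subgroup.eq_top_iff' _).2 fun g => ?_
    obtain ⟨a, -, ha, -, -⟩ := h.classes
    obtain ⟨s, hs, hs1, -⟩ := h.exists_conj ha
    exact h.mem_of_comm hs hs1 (hc.is_comm.comm g s)
  have := h.card
  rw [htop, Subgroup.card_top] at this
  rw [this]
  norm_num

theorem cube_root (h : Hyp P) (ψ : (P : Subgroup G) →* ℂˣ) (y : (P : Subgroup G)) :
    ((ψ y : ℂˣ) : ℂ) ^ 3 = 1 ∧ (((ψ y)⁻¹ : ℂˣ) : ℂ) = ((ψ y : ℂˣ) : ℂ) ^ 2 ∧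
      (((ψ y : ℂˣ) : ℂ) = 1 ∨ ((ψ y : ℂˣ) : ℂ) + ((ψ y : ℂˣ) : ℂ) ^ 2 = -1) := by
  have h1 : ψ y ^ 3 = 1 := by
    rw [← map_pow, show y ^ 3 = 1 from Subtype.ext (by simpa using h.exp _ y.2), map_one]
  have h2 : ((ψ y : ℂˣ) : ℂ) ^ 3 = 1 := by rw [← Units.val_pow_eq_pow_val, h1, Units.val_one]
  refine ⟨h2, ?_, ?_⟩
  · rw [← Units.val_pow_eq_pow_val]
    exact congrArg Units.val (inv_eq_of_mul_eq_one_right (by rw [← pow_succ']; exact h1))
  · have h3 : (((ψ y : ℂˣ) : ℂ) - 1) * (((ψ y : ℂˣ) : ℂ) + ((ψ y : ℂˣ) : ℂ) ^ 2 + 1) = 0 := by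
      linear_combination h2
    rcases mul_eq_zero.1 h3 with e | e
    · exact Or.inl (sub_eq_zero.1 e)
    · exact Or.inr (eq_neg_of_add_eq_zero_left e)

theorem Hyp.pow_quot_mem (h : Hyp P) {n : G} (hn : n ∈ Subgroup.normalizer ((P : Subgroup G) : Set G)) :
    n ^ quot P ∈ (P : Subgroup G) := by
  have hq : ((P : Subgroup G).subgroupOf (Subgroup.normalizer ((P : Subgroup G) : Set G))).index = quot P := by
    rw [quot, h.centralizer_eq]; rfl
  have := ((P : Subgroup G).subgroupOf (Subgroup.normalizer ((P : Subgroup G) : Set G))).pow_index_mem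
    (⟨n, hn⟩ : Subgroup.normalizer ((P : Subgroup G) : Set G))
  rw [hq] at this
  exact this

theorem Hyp.conj_self (h : Hyp P) {k w : G} (hk : k ∈ (P : Subgroup G)) (hw : w ∈ (P : Subgroup G)) :
    k * w * k⁻¹ = w := by
  rw [h.comm _ hk _ hw, mul_inv_cancel_right]

theorem Hyp.exists_ne_one (h : Hyp P) : ∃ s ∈ (P : Subgroup G), s ≠ 1 := by
  obtain ⟨a, -, ha, -, -⟩ := h.classes
  obtain ⟨s, hs, hs1, -⟩ := h.exists_conj ha
  exact ⟨s, hs, hs1⟩

/-- The case `|N : P| = 2`. -/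
theorem Hyp.two_data (h : Hyp P) (hq : quot P = 2) :
    ∃ s t : (P : Subgroup G), (s : G) ≠ 1 ∧ (t : G) ≠ 1 ∧
      Nat.card {p : G × G // IsConj (s : G) p.1 ∧ IsConj (s : G) p.2 ∧ p.1 * p.2 = (t : G)} = 0 ∧
      ∀ {ι : Type u} [Fintype ι] (rep : ι → ((P : Subgroup G) →* ℂˣ)),
        (∀ i, rep i ≠ 1) → (∀ ψ, ψ ≠ 1 → ∃! i, Lib.Char.ATI.Rel P (rep i) ψ) →
        ∑ i, orbSum P (rep i) s * orbSum P (rep i) s * conj (orbSum P (rep i) t) = -4 := by
  classical
  haveI : Fact (Nat.Prime 3) := ⟨Nat.prime_three⟩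
  set N := Subgroup.normalizer ((P : Subgroup G) : Set G) with hN
  have hact : ∀ k ∈ N, (∀ w ∈ (P : Subgroup G), k * w * k⁻¹ = w) ∨
      (∀ w ∈ (P : Subgroup G), k * w * k⁻¹ = w⁻¹) := by
    intro k hk
    by_cases hkP : k ∈ (P : Subgroup G)
    · exact Or.inl fun w hw => h.conj_self hkP hw
    · have h2 := h.pow_quot_mem hk
      rw [hq, pow_two] at h2
      exact Or.inr fun w hw => h.inverts hk hkP h2 hw
  obtain ⟨n, hn, hnP⟩ : ∃ n ∈ N, n ∉ (P : Subgroup G) := by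
    by_contra hcon
    push Not at hcon
    have h1 : Nat.card N = 9 * quot P := h.card_normalizer
    rw [show N = (P : Subgroup G) from le_antisymm hcon Subgroup.le_normalizer, h.card, hq] at h1
    omega
  have hinv : ∀ w ∈ (P : Subgroup G), n * w * n⁻¹ = w⁻¹ := by
    have h2 := h.pow_quot_mem hn
    rw [hq, pow_two] at h2
    exact fun w hw => h.inverts hn hnP h2 hw
  obtain ⟨s, hs, hs1⟩ := h.exists_ne_one
  obtain ⟨t, ht, hts⟩ : ∃ t ∈ (P : Subgroup G), t ∉ Subgroup.zpowers s := by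
    by_contra hcon
    push Not at hcon
    have := Subgroup.card_le_of_le (show (P : Subgroup G) ≤ Subgroup.zpowers s from hcon)
    rw [h.card, Nat.card_zpowers, h.orderOf_eq hs hs1] at this
    omega
  have ht1 : t ≠ 1 := fun e => hts (e ▸ one_mem _)
  have hcl : ∀ x ∈ (P : Subgroup G), IsConj s x → x ∈ Subgroup.zpowers s := by
    intro x hx hc
    obtain ⟨k, hk, rfl⟩ := h.fused hs hx hc
    rcases hact k hk with e | e <;> rw [e s hs]
    · exact Subgroup.mem_zpowers s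
    · exact inv_mem (Subgroup.mem_zpowers s)
  refine ⟨⟨s, hs⟩, ⟨t, ht⟩, hs1, ht1, ?_, ?_⟩
  · rw [Nat.card_eq_zero]
    refine Or.inl ⟨fun p => ?_⟩
    obtain ⟨⟨x, y⟩, hx, hy, hxy⟩ := p
    simp only at hx hy hxy
    have hord : ∀ z, IsConj s z → orderOf z = 3 := fun z hz => by
      obtain ⟨g, rfl⟩ := isConj_iff.1 hz
      rw [show g * s * g⁻¹ = (MulAut.conj g).toMonoidHom s from rfl,
        orderOf_injective (MulAut.conj g).toMonoidHom (MulAut.conj g).injective, h.orderOf_eq hs hs1]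
    have hne : ¬ IsConj t x⁻¹ := by
      intro hc
      refine hts (hcl t ht ?_)
      have h1 : IsConj s s⁻¹ := isConj_iff.2 ⟨n, hinv s hs⟩
      obtain ⟨g, hg⟩ := isConj_iff.1 hx
      have h2 : IsConj s⁻¹ x⁻¹ := isConj_iff.2 ⟨g, by rw [← hg]; group⟩
      exact h1.trans (h2.trans hc.symm)
    obtain ⟨hxP, hyP⟩ := h.factors_mem (hord x hx) (hord y hy) ht ht1 hxy hne
    exact hts (hxy ▸ mul_mem (hcl x hxP hx) (hcl y hyP hy))
  · intro ι _ rep hrep1 huniq
    have horb : ∀ i, ∀ y : (P : Subgroup G), orbSum P (rep i) y =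
        ((rep i y : ℂˣ) : ℂ) + ((rep i y : ℂˣ) : ℂ) ^ 2 := by
      intro i y
      have hset : {ψ' | Lib.Char.ATI.Rel P (rep i) ψ'} = {rep i, (rep i)⁻¹} := by
        ext ψ'
        simp only [Set.mem_setOf_eq, Set.mem_insert_iff, Set.mem_singleton_iff]
        constructor
        · rintro ⟨k, hk, hk'⟩
          rcases hact k hk with e | e
          · exact Or.inl (MonoidHom.ext fun w => hk' w w (e w w.2).symm)
          · refine Or.inr (MonoidHom.ext fun w => ?_)
            have := hk' w⁻¹ w (by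
              rw [e _ (w⁻¹).2, Subgroup.coe_inv, inv_inv])
            rw [this, map_inv, MonoidHom.inv_apply]
        · rintro (rfl | rfl)
          · exact Lib.Char.ATI.rel_refl P _
          · refine ⟨n, hn, fun w w' e => ?_⟩
            have : w' = w⁻¹ := Subtype.ext (by rw [e, hinv w w.2, Subgroup.coe_inv])
            rw [this, MonoidHom.inv_apply, map_inv, inv_inv]
      have hne : rep i ≠ (rep i)⁻¹ := by
        intro e
        refine hrep1 i (MonoidHom.ext fun w => ?_)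
        have h1 : rep i w = (rep i w)⁻¹ := DFunLike.congr_fun e w
        have h2 : rep i w ^ 3 = 1 := by
          rw [← map_pow, show w ^ 3 = 1 from Subtype.ext (by simpa using h.exp _ w.2), map_one]
        have h3 : rep i w ^ 2 = 1 := by rw [pow_two]; nth_rw 1 [h1]; exact inv_mul_cancel _
        rw [pow_succ, h3, one_mul] at h2
        rw [h2, MonoidHom.one_apply]
      rw [orbSum, hset, finsum_mem_pair hne, MonoidHom.inv_apply, (cube_root h (rep i) y).2.1]
    have hreal : ∀ i, ∀ y : (P : Subgroup G), conj (orbSum P (rep i) y) = orbSum P (rep i) y := by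
      intro i y
      rw [horb]
      rcases (cube_root h (rep i) y).2.2 with e | e
      · rw [e]; simp
      · rw [e]; simp
    set s' : (P : Subgroup G) := ⟨s, hs⟩
    set t' : (P : Subgroup G) := ⟨t, ht⟩
    have hid : ∀ i, orbSum P (rep i) s' * orbSum P (rep i) s' * orbSum P (rep i) t' =
        orbSum P (rep i) (s' * t') + orbSum P (rep i) (s' * t' ^ 2) + 2 * orbSum P (rep i) t' := by
      intro i
      simp only [horb, map_mul, map_pow, Units.val_mul, Units.val_pow_eq_pow_val]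
      have e1 := (cube_root h (rep i) s').1
      have e2 := (cube_root h (rep i) t').1
      generalize ((rep i s' : ℂˣ) : ℂ) = x at e1 ⊢
      generalize ((rep i t' : ℂˣ) : ℂ) = z at e2 ⊢
      linear_combination (z + z ^ 2) * (2 + x) * e1 - x ^ 2 * z * e2
    rw [Finset.sum_congr rfl (fun i _ => by rw [hreal i, hid i]), Finset.sum_add_distrib,
      Finset.sum_add_distrib, ← Finset.mul_sum]
    have hls : ∀ y : (P : Subgroup G), y ≠ 1 → ∑ i, orbSum P (rep i) y = -1 := fun y hy =>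
      Lib.Char.ATI.lam_sum P ⟨⟨fun a b => Subtype.ext (h.comm _ a.2 _ b.2)⟩⟩ hrep1 huniq hy
    have n1 : s' * t' ≠ 1 := fun e => hts (by
      rw [show t = s⁻¹ from eq_inv_of_mul_eq_one_right (congrArg Subtype.val e)]
      exact inv_mem (Subgroup.mem_zpowers s))
    have n2 : s' * t' ^ 2 ≠ 1 := fun e => hts (by
      have e' : s * t ^ 2 = 1 := congrArg Subtype.val e
      have e3 : t ^ 3 = 1 := h.exp t ht
      rw [show t = s by
        calc t = s * t ^ 2 * t := by rw [e', one_mul]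
          _ = s := by rw [mul_assoc, ← pow_succ, e3, mul_one]]
      exact Subgroup.mem_zpowers s)
    rw [hls _ n1, hls _ n2, hls t' (fun e => ht1 (congrArg Subtype.val e))]
    norm_num

/-- The case `|N : P| = 4`. -/
theorem Hyp.four_data (h : Hyp P) (hq : quot P = 4) :
    ∃ s t : (P : Subgroup G), (s : G) ≠ 1 ∧ (t : G) ≠ 1 ∧
      Nat.card {p : G × G // IsConj (s : G) p.1 ∧ IsConj (s : G) p.2 ∧ p.1 * p.2 = (t : G)} = 2 ∧
      ∀ {ι : Type u} [Fintype ι] (rep : ι → ((P : Subgroup G) →* ℂˣ)), Fintype.card ι = 2 →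
        (∀ i, rep i ≠ 1) → (∀ ψ, ψ ≠ 1 → ∃! i, Lib.Char.ATI.Rel P (rep i) ψ) →
        ∀ F : ℂ → ℂ → ℂ,
          ∑ i, F (orbSum P (rep i) s) (orbSum P (rep i) t) = F 1 (-2) + F (-2) 1 := by
  classical
  haveI : Fact (Nat.Prime 3) := ⟨Nat.prime_three⟩
  set N := Subgroup.normalizer ((P : Subgroup G) : Set G) with hN
  set P' := (P : Subgroup G).subgroupOf N with hP'
  haveI : P'.Normal := Subgroup.normal_in_normalizer
  have hQ : Nat.card (N ⧸ P') = 4 := by
    rw [← Subgroup.index_eq_card, ← hq, quot, h.centralizer_eq]; rfl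
  obtain ⟨u, hu, hu1⟩ := h.exists_ne_one
  obtain ⟨n, hn, hn2⟩ : ∃ n ∈ N, n * n ∉ (P : Subgroup G) := by
    by_contra hcon
    push Not at hcon
    obtain ⟨k₁, hk₁, hk₁P⟩ : ∃ k ∈ N, k ∉ (P : Subgroup G) := by
      by_contra hcon'
      push Not at hcon'
      have h1 : Nat.card N = 9 * quot P := h.card_normalizer
      rw [show N = (P : Subgroup G) from le_antisymm hcon' Subgroup.le_normalizer, h.card, hq] at h1
      omega
    have hall : ∀ q : N ⧸ P', q = 1 ∨ q = QuotientGroup.mk (⟨k₁, hk₁⟩ : N) := by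
      intro q
      obtain ⟨⟨k, hk⟩, rfl⟩ := QuotientGroup.mk_surjective q
      by_cases hkP : k ∈ (P : Subgroup G)
      · exact Or.inl ((QuotientGroup.eq_one_iff _).2 hkP)
      · refine Or.inr (QuotientGroup.eq.2 ?_)
        show k⁻¹ * k₁ ∈ (P : Subgroup G)
        have e1 := h.inverts hk hkP (hcon k hk) hu
        have e2 := h.inverts hk₁ hk₁P (hcon k₁ hk₁) hu
        refine h.mem_of_comm hu hu1 (mul_inv_eq_iff_eq_mul.1 ?_)
        calc k⁻¹ * k₁ * u * (k⁻¹ * k₁)⁻¹ = k⁻¹ * (k₁ * u * k₁⁻¹) * k := by group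
          _ = k⁻¹ * (k * u * k⁻¹) * k := by rw [e1, e2]
          _ = u := by group
    haveI := Fintype.ofFinite (N ⧸ P')
    have : Nat.card (N ⧸ P') ≤ 2 := by
      rw [Nat.card_eq_fintype_card, ← Finset.card_univ]
      exact (Finset.card_le_card (t := ({1, QuotientGroup.mk (⟨k₁, hk₁⟩ : N)} : Finset (N ⧸ P')))
        fun q _ => by simpa using hall q).trans Finset.card_le_two
    omega
  have hnP : n ∉ (P : Subgroup G) := fun e => hn2 (mul_mem e e)
  have hn4 : n * n * (n * n) ∈ (P : Subgroup G) := by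
    have := h.pow_quot_mem hn
    rw [hq] at this
    simpa [pow_succ, mul_assoc] using this
  set σ : G → G := fun w => n * w * n⁻¹ with hσ
  have hσmem : ∀ w ∈ (P : Subgroup G), σ w ∈ (P : Subgroup G) := fun w hw =>
    (Subgroup.mem_normalizer_iff.1 hn w).1 hw
  have hσσ : ∀ w ∈ (P : Subgroup G), σ (σ w) = w⁻¹ := fun w hw => by
    rw [← h.inverts (mul_mem hn hn) hn2 hn4 hw]
    simp only [hσ, mul_inv_rev]; group
  -- every element of the normalizer acts as a power of `n`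
  have hact : ∀ k ∈ N, (∀ w ∈ (P : Subgroup G), k * w * k⁻¹ = w) ∨
      (∀ w ∈ (P : Subgroup G), k * w * k⁻¹ = σ w) ∨ (∀ w ∈ (P : Subgroup G), k * w * k⁻¹ = w⁻¹) ∨
      (∀ w ∈ (P : Subgroup G), k * w * k⁻¹ = (σ w)⁻¹) := by
    intro k hk
    haveI := Fintype.ofFinite (N ⧸ P')
    set q : N ⧸ P' := QuotientGroup.mk (⟨n, hn⟩ : N) with hq'
    have hord : orderOf q = 4 := by
      refine orderOf_eq_prime_pow (p := 2) (n := 1) (fun e => hn2 ?_) ?_
      · rw [hq', ← QuotientGroup.mk_pow, QuotientGroup.eq_one_iff] at e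
        simpa [pow_two] using Subgroup.mem_subgroupOf.1 e
      · rw [hq', ← QuotientGroup.mk_pow, QuotientGroup.eq_one_iff]
        have := h.pow_quot_mem hn
        rw [hq] at this
        simpa using Subgroup.mem_subgroupOf.2 (show ((⟨n, hn⟩ : N) ^ (2 ^ (1 + 1)) : N).1 ∈ (P : Subgroup G)
          by simpa using this)
    have hz : Subgroup.zpowers q = ⊤ :=
      Subgroup.eq_top_of_card_eq _ (by rw [Nat.card_zpowers, hord, hQ])
    have hmem : QuotientGroup.mk (⟨k, hk⟩ : N) ∈ Subgroup.zpowers q := hz ▸ Subgroup.mem_top _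
    obtain ⟨j, hj, e⟩ := Finset.mem_image.1 (mem_zpowers_iff_mem_range_orderOf.1 hmem)
    rw [hord, Finset.mem_range] at hj
    rw [hq', ← QuotientGroup.mk_pow, QuotientGroup.eq] at e
    have hc : (n ^ j)⁻¹ * k ∈ (P : Subgroup G) := by
      simpa using Subgroup.mem_subgroupOf.1 e
    have key : ∀ w ∈ (P : Subgroup G), k * w * k⁻¹ = n ^ j * w * (n ^ j)⁻¹ := fun w hw => by
      conv_rhs => rw [← h.conj_self hc hw]
      group
    interval_cases j
    · exact Or.inl fun w hw => by simpa using key w hw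
    · exact Or.inr (Or.inl fun w hw => by simpa using key w hw)
    · refine Or.inr (Or.inr (Or.inl fun w hw => ?_))
      rw [key w hw, ← hσσ w hw]
      simp only [hσ, pow_succ, pow_zero, one_mul, mul_inv_rev, mul_assoc]
    · refine Or.inr (Or.inr (Or.inr fun w hw => ?_))
      rw [key w hw, ← hσσ _ (hσmem w hw)]
      simp only [hσ, pow_succ, pow_zero, one_mul, mul_inv_rev, mul_assoc]
  set v := σ u with hv
  have hvP : v ∈ (P : Subgroup G) := hσmem u hu
  have hvu : v ∉ Subgroup.zpowers u := by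
    intro e
    obtain ⟨j, hj, e⟩ := Finset.mem_image.1 (mem_zpowers_iff_mem_range_orderOf.1 e)
    rw [h.orderOf_eq hu hu1, Finset.mem_range] at hj
    interval_cases j
    · rw [pow_zero, hv, hσ] at e
      exact hu1 (conj_eq_one_iff.1 e.symm)
    · rw [pow_one, hv, hσ] at e
      exact hnP (h.mem_of_comm hu hu1 (mul_inv_eq_iff_eq_mul.1 e.symm))
    · have e2 : v = u⁻¹ := by
        rw [← e]
        exact (inv_eq_of_mul_eq_one_right (by rw [← pow_succ', h.exp u hu])).symm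
      refine hn2 (h.mem_of_comm hu hu1 (mul_inv_eq_iff_eq_mul.1 ?_))
      calc n * n * u * (n * n)⁻¹ = σ v := by rw [hv]; simp only [hσ]; group
        _ = σ u⁻¹ := by rw [e2]
        _ = v⁻¹ := by rw [hv]; simp only [hσ]; group
        _ = u := by rw [e2, inv_inv]
  let f : ZMod 3 → ZMod 3 → G := fun a b => u ^ a.val * v ^ b.val
  have hfP : ∀ a b, f a b ∈ (P : Subgroup G) := fun a b => mul_mem (pow_mem hu _) (pow_mem hvP _)
  have hfmul : ∀ a b c e, f a b * f c e = f (a + c) (b + e) := by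
    intro a b c e
    simp only [f, ZMod.val_add]
    rw [← pow_eq_pow_mod _ (h.exp u hu), ← pow_eq_pow_mod _ (h.exp v hvP), pow_add, pow_add]
    calc u ^ a.val * v ^ b.val * (u ^ c.val * v ^ e.val)
        = u ^ a.val * (v ^ b.val * u ^ c.val) * v ^ e.val := by group
      _ = u ^ a.val * (u ^ c.val * v ^ b.val) * v ^ e.val := by
        rw [h.comm _ (pow_mem hvP _) _ (pow_mem hu _)]
      _ = _ := by group
  have hfinj : ∀ a b c e, f a b = f c e → a = c ∧ b = e := by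
    intro a b c e he
    have h0 : f (a - c) (b - e) = 1 := by
      have := hfmul (a - c) (b - e) c e
      rw [sub_add_cancel, sub_add_cancel, he] at this
      exact mul_eq_right.1 this
    have hb : b - e = 0 := by
      by_contra hb
      have h2 : v ^ (b - e).val ∈ Subgroup.zpowers u := by
        rw [eq_inv_of_mul_eq_one_right h0]
        exact inv_mem (pow_mem (Subgroup.mem_zpowers u) _)
      have h3 := zmod_three_sq
      have h4 := pow_mem h2 (b - e).val
      rw [← pow_mul, pow_eq_pow_mod _ (h.exp v hvP), ← ZMod.val_mul, h3 _ hb, ZMod.val_one, pow_one] at h4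
      exact hvu h4
    simp only [f, hb, ZMod.val_zero, pow_zero, mul_one] at h0
    have h5 := orderOf_dvd_of_pow_eq_one h0
    rw [h.orderOf_eq hu hu1] at h5
    have h6 := ZMod.val_lt (a - c)
    have h7 : (a - c).val = 0 := Nat.eq_zero_of_dvd_of_lt h5 h6
    exact ⟨sub_eq_zero.1 ((ZMod.val_eq_zero _).1 h7), sub_eq_zero.1 hb⟩
  have hfsurj : ∀ w ∈ (P : Subgroup G), ∃ a b, f a b = w := by
    intro w hw
    haveI := Fintype.ofFinite (P : Subgroup G)
    have hb : Function.Bijective (fun p : ZMod 3 × ZMod 3 => (⟨f p.1 p.2, hfP _ _⟩ : (P : Subgroup G))) := by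
      rw [Fintype.bijective_iff_injective_and_card]
      refine ⟨fun p q e => ?_, ?_⟩
      · obtain ⟨e1, e2⟩ := hfinj _ _ _ _ (congrArg Subtype.val e)
        exact Prod.ext e1 e2
      · rw [← Nat.card_eq_fintype_card, ← Nat.card_eq_fintype_card, h.card, Nat.card_prod, Nat.card_zmod]
    obtain ⟨⟨a, b⟩, e⟩ := hb.2 ⟨w, hw⟩
    exact ⟨a, b, congrArg Subtype.val e⟩
  have f10 : f 1 0 = u := by simp [f, ZMod.val_one]
  have f01 : f 0 1 = v := by simp [f, ZMod.val_one]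
  have f20 : f 2 0 = u⁻¹ := (inv_eq_of_mul_eq_one_right (by
    rw [← f10, hfmul]; simp [f, zmod_three_add])).symm
  have f02 : f 0 2 = v⁻¹ := (inv_eq_of_mul_eq_one_right (by
    rw [← f01, hfmul]; simp [f, zmod_three_add])).symm
  have hcl : ∀ x ∈ (P : Subgroup G), IsConj u x → ∃ a b : ZMod 3, x = f a b ∧
      (a, b) ∈ [((1 : ZMod 3), (0 : ZMod 3)), (2, 0), (0, 1), (0, 2)] := by
    intro x hx hc
    obtain ⟨k, hk, rfl⟩ := h.fused hu hx hc
    rcases hact k hk with e | e | e | e <;> rw [e u hu]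
    · exact ⟨1, 0, f10.symm, by simp⟩
    · exact ⟨0, 1, f01.symm, by simp⟩
    · exact ⟨2, 0, f20.symm, by simp⟩
    · exact ⟨0, 2, f02.symm, by simp⟩
  have hsv : IsConj u v := isConj_iff.2 ⟨n, rfl⟩
  have hsinv : IsConj u u⁻¹ := isConj_iff.2 ⟨n * n, h.inverts (mul_mem hn hn) hn2 hn4 hu⟩
  set t := u * v with ht'
  have htP : t ∈ (P : Subgroup G) := mul_mem hu hvP
  have ft : f 1 1 = t := by simp [f, ZMod.val_one, ht']
  have ht1 : t ≠ 1 := fun e => by
    have := (hfinj 1 1 0 0 (by rw [ft, e]; simp [f])).1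
    exact zmod_three_one this
  refine ⟨⟨u, hu⟩, ⟨t, htP⟩, hu1, ht1, ?_, ?_⟩
  · show Nat.card {p : G × G // IsConj u p.1 ∧ IsConj u p.2 ∧ p.1 * p.2 = t} = 2
    rw [Nat.subtype_card {(u, v), (v, u)} ?_, Finset.card_pair ?_]
    · exact fun e => hvu (by rw [show v = u from ((Prod.ext_iff.1 e).1).symm]; exact Subgroup.mem_zpowers u)
    rintro ⟨x, y⟩
    simp only [Finset.mem_insert, Finset.mem_singleton, Prod.mk.injEq]
    constructor
    · rintro (⟨rfl, rfl⟩ | ⟨rfl, rfl⟩)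
      · exact ⟨IsConj.refl _, hsv, rfl⟩
      · exact ⟨hsv, IsConj.refl _, h.comm _ hvP _ hu⟩
    · rintro ⟨hx, hy, hxy⟩
      have hord : ∀ z, IsConj u z → orderOf z = 3 := fun z hz => by
        obtain ⟨g, rfl⟩ := isConj_iff.1 hz
        rw [show g * u * g⁻¹ = (MulAut.conj g).toMonoidHom u from rfl,
          orderOf_injective (MulAut.conj g).toMonoidHom (MulAut.conj g).injective, h.orderOf_eq hu hu1]
      have hne : ¬ IsConj t x⁻¹ := by
        intro hc
        obtain ⟨g, hg⟩ := isConj_iff.1 hx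
        have h2 : IsConj u⁻¹ x⁻¹ := isConj_iff.2 ⟨g, by rw [← hg]; group⟩
        obtain ⟨a, b, e, hab⟩ := hcl t htP (hsinv.trans (h2.trans hc.symm))
        obtain ⟨rfl, rfl⟩ := hfinj 1 1 a b (ft.trans e)
        exact zmod_three_not_mem hab
      obtain ⟨hxP, hyP⟩ := h.factors_mem (hord x hx) (hord y hy) htP ht1 hxy hne
      obtain ⟨a, b, rfl, hab⟩ := hcl x hxP hx
      obtain ⟨c, e, rfl, hce⟩ := hcl y hyP hy
      rw [hfmul, ← ft] at hxy
      obtain ⟨e1, e2⟩ := hfinj _ _ _ _ hxy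
      rcases zmod_three_split a b c e hab hce e1 e2 with ⟨rfl, rfl, rfl, rfl⟩ | ⟨rfl, rfl, rfl, rfl⟩
      · exact Or.inl ⟨f10, f01⟩
      · exact Or.inr ⟨f01, f10⟩
  · intro ι _ rep hcard hrep1 huniq F
    have horb : ∀ i, ∀ y : (P : Subgroup G), orbSum P (rep i) y =
        ((rep i y : ℂˣ) : ℂ) + ((rep i y : ℂˣ) : ℂ) ^ 2 +
        (((rep i ⟨σ y, hσmem y y.2⟩ : ℂˣ) : ℂ) + ((rep i ⟨σ y, hσmem y y.2⟩ : ℂˣ) : ℂ) ^ 2) := by
      intro i y
      set ψ := rep i
      set φ := ψ.comp (Lib.Char.ATI.cj P n hn) with hφ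
      have hφv : ∀ w : (P : Subgroup G), φ w = ψ ⟨σ w, hσmem w w.2⟩ := fun w => rfl
      have hφφ : ∀ w : (P : Subgroup G), φ ⟨σ w, hσmem w w.2⟩ = (ψ w)⁻¹ := fun w => by
        rw [hφv, ← map_inv]
        exact congrArg ψ (Subtype.ext (hσσ w w.2))
      have hset : {ψ' | Lib.Char.ATI.Rel P ψ ψ'} = (({ψ, ψ⁻¹, φ, φ⁻¹} : Finset _) : Set _) := by
        ext ψ'
        simp only [Set.mem_setOf_eq, Finset.coe_insert, Finset.coe_singleton, Set.mem_insert_iff,
          Set.mem_singleton_iff]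
        constructor
        · rintro ⟨k, hk, hk'⟩
          rcases hact k hk with e | e | e | e
          · exact Or.inl (MonoidHom.ext fun w => hk' w w (e w w.2).symm)
          · refine Or.inr (Or.inr (Or.inr (MonoidHom.ext fun w => ?_)))
            rw [MonoidHom.inv_apply, hφv, ← map_inv]
            refine hk' _ w ?_
            show (w : G) = k * (σ w)⁻¹ * k⁻¹
            rw [e _ (inv_mem (hσmem w w.2))]
            rw [show σ (σ (w : G))⁻¹ = (σ (σ w))⁻¹ by simp only [hσ, conj_inv], hσσ w w.2, inv_inv]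
          · refine Or.inr (Or.inl (MonoidHom.ext fun w => ?_))
            rw [MonoidHom.inv_apply, ← map_inv]
            exact hk' w⁻¹ w (by rw [e _ (w⁻¹).2, Subgroup.coe_inv, inv_inv])
          · refine Or.inr (Or.inr (Or.inl (MonoidHom.ext fun w => ?_)))
            rw [hφv]
            refine hk' _ w ?_
            show (w : G) = k * σ w * k⁻¹
            rw [e _ (hσmem w w.2), hσσ w w.2, inv_inv]
        · rintro (rfl | rfl | rfl | rfl)
          · exact Lib.Char.ATI.rel_refl P _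
          · refine ⟨n * n, mul_mem hn hn, fun w w' e => ?_⟩
            have : w' = w⁻¹ := Subtype.ext (by
              rw [e, h.inverts (mul_mem hn hn) hn2 hn4 w.2, Subgroup.coe_inv])
            rw [this, MonoidHom.inv_apply, map_inv, inv_inv]
          · refine ⟨n * n * n, mul_mem (mul_mem hn hn) hn, fun w w' e => ?_⟩
            have : w' = (⟨σ w, hσmem w w.2⟩ : (P : Subgroup G))⁻¹ := Subtype.ext (by
              rw [e, Subgroup.coe_inv]
              show n * n * n * (w : G) * (n * n * n)⁻¹ = (σ w)⁻¹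
              rw [← hσσ _ (hσmem w w.2)]
              simp only [hσ]; group)
            rw [this, map_inv, hφφ, inv_inv]
          · refine ⟨n, hn, fun w w' e => ?_⟩
            have : w' = ⟨σ w, hσmem w w.2⟩ := Subtype.ext e
            rw [this, MonoidHom.inv_apply, hφφ, inv_inv]
      -- the four conjugates are distinct
      have hx3 : ∀ w, ψ w ^ 3 = 1 := fun w => by
        rw [← map_pow, show w ^ 3 = 1 from Subtype.ext (by simpa using h.exp _ w.2), map_one]
      have hxy : ψ ⟨u, hu⟩ ≠ 1 ∨ ψ ⟨v, hvP⟩ ≠ 1 := by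
        by_contra hcon
        push Not at hcon
        refine hrep1 i (MonoidHom.ext fun w => ?_)
        obtain ⟨a, b, e⟩ := hfsurj w w.2
        rw [show w = (⟨u, hu⟩ : (P : Subgroup G)) ^ a.val * (⟨v, hvP⟩ : (P : Subgroup G)) ^ b.val from
          Subtype.ext (by simpa [f] using e.symm), map_mul, map_pow, map_pow, hcon.1, hcon.2]
        simp
      have hφu : φ ⟨u, hu⟩ = ψ ⟨v, hvP⟩ := rfl
      have hφw : φ ⟨v, hvP⟩ = (ψ ⟨u, hu⟩)⁻¹ := hφφ ⟨u, hu⟩
      have key : ∀ a b : ℂˣ, a ^ 3 = 1 → b ^ 3 = 1 → (a = b ∧ b = a⁻¹ ∨ a = b⁻¹ ∧ b = a) →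
          a = 1 ∧ b = 1 := by
        intro a b ha hb hh
        have h2 : a ^ 2 = 1 := by
          rcases hh with ⟨e1, e2⟩ | ⟨e1, e2⟩
          · rw [pow_two]; nth_rw 2 [e1.trans e2]; exact mul_inv_cancel _
          · rw [pow_two]; nth_rw 2 [e1.trans (by rw [e2])]; exact mul_inv_cancel _
        have ha1 : a = 1 := by rwa [pow_succ, h2, one_mul] at ha
        refine ⟨ha1, ?_⟩
        rcases hh with ⟨e1, -⟩ | ⟨-, e2⟩
        · rw [← e1, ha1]
        · rw [e2, ha1]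
      have self : ∀ a : ℂˣ, a ^ 3 = 1 → a = a⁻¹ → a = 1 := fun a ha e => by
        have h2 : a ^ 2 = 1 := by rw [pow_two]; nth_rw 2 [e]; exact mul_inv_cancel _
        rwa [pow_succ, h2, one_mul] at ha
      have hd1 : ψ ≠ ψ⁻¹ := fun e => hxy.elim
        (fun h1 => h1 (self _ (hx3 _) (DFunLike.congr_fun e _)))
        (fun h1 => h1 (self _ (hx3 _) (DFunLike.congr_fun e _)))
      have hd2 : ψ ≠ φ := fun e => by
        have e1 := DFunLike.congr_fun e ⟨u, hu⟩
        have e2 := DFunLike.congr_fun e ⟨v, hvP⟩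
        rw [hφu] at e1; rw [hφw] at e2
        obtain ⟨g1, g2⟩ := key _ _ (hx3 _) (hx3 _) (Or.inl ⟨e1, e2⟩)
        exact hxy.elim (fun h1 => h1 g1) (fun h1 => h1 g2)
      have hd3 : ψ ≠ φ⁻¹ := fun e => by
        have e1 := DFunLike.congr_fun e ⟨u, hu⟩
        have e2 := DFunLike.congr_fun e ⟨v, hvP⟩
        rw [MonoidHom.inv_apply, hφu] at e1; rw [MonoidHom.inv_apply, hφw, inv_inv] at e2
        obtain ⟨g1, g2⟩ := key _ _ (hx3 _) (hx3 _) (Or.inr ⟨e1, e2⟩)
        exact hxy.elim (fun h1 => h1 g1) (fun h1 => h1 g2)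
      have hd4 : ψ⁻¹ ≠ φ := fun e => hd3 (by rw [← e]; exact (inv_inv ψ).symm)
      have hd5 : ψ⁻¹ ≠ φ⁻¹ := fun e => hd2 (inv_injective e)
      have hd6 : φ ≠ φ⁻¹ := fun e => by
        have e1 := DFunLike.congr_fun e ⟨u, hu⟩
        have e2 := DFunLike.congr_fun e ⟨v, hvP⟩
        rw [MonoidHom.inv_apply, hφu] at e1
        rw [MonoidHom.inv_apply, hφw] at e2
        exact hxy.elim (fun h1 => h1 (inv_eq_one.1 (self _ (by rw [inv_pow, hx3, inv_one]) e2)))
          (fun h1 => h1 (self _ (hx3 _) e1))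
      rw [orbSum, hset, finsum_mem_coe_finset, Finset.sum_insert (by simp [hd1, hd2, hd3]),
        Finset.sum_insert (by simp [hd4, hd5]), Finset.sum_pair hd6]
      simp only [MonoidHom.inv_apply, hφv, (cube_root h ψ _).2.1]
      ring
    set u' : (P : Subgroup G) := ⟨u, hu⟩
    set v' : (P : Subgroup G) := ⟨v, hvP⟩
    set t' : (P : Subgroup G) := ⟨t, htP⟩
    have hval : ∀ i, (orbSum P (rep i) u' = 1 ∧ orbSum P (rep i) t' = -2) ∨
        (orbSum P (rep i) u' = -2 ∧ orbSum P (rep i) t' = 1) := by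
      intro i
      have e1 : (⟨σ (u' : G), hσmem _ u'.2⟩ : (P : Subgroup G)) = v' := rfl
      have e2 : t' = u' * v' := rfl
      have e3 : (⟨σ (t' : G), hσmem _ t'.2⟩ : (P : Subgroup G)) = v' * u'⁻¹ := Subtype.ext (by
        show σ (u * v) = v * u⁻¹
        rw [show σ (u * v) = σ u * σ v by simp only [hσ]; group, hv, hσσ u hu])
      rw [horb, horb, e1, e3, e2]
      simp only [map_mul, map_inv, Units.val_mul, (cube_root h (rep i) u').2.1]
      obtain ⟨ha, -, ha'⟩ := cube_root h (rep i) u'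
      obtain ⟨hb, -, hb'⟩ := cube_root h (rep i) v'
      have hne : ¬ (((rep i u' : ℂˣ) : ℂ) = 1 ∧ ((rep i v' : ℂˣ) : ℂ) = 1) := by
        rintro ⟨g1, g2⟩
        refine hrep1 i (MonoidHom.ext fun w => ?_)
        obtain ⟨a, b, e⟩ := hfsurj w w.2
        rw [show w = u' ^ a.val * v' ^ b.val from Subtype.ext (by simpa [f] using e.symm), map_mul,
          map_pow, map_pow, Units.val_eq_one.1 g1, Units.val_eq_one.1 g2]
        simp
      generalize ((rep i u' : ℂˣ) : ℂ) = a at ha ha' hne ⊢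
      generalize ((rep i v' : ℂˣ) : ℂ) = b at hb hb' hne ⊢
      rcases ha' with rfl | ha' <;> rcases hb' with rfl | hb'
      · exact absurd ⟨rfl, rfl⟩ hne
      · left; constructor
        · linear_combination hb'
        · linear_combination 2 * hb'
      · left; constructor
        · linear_combination ha'
        · linear_combination 2 * ha' + a * ha
      · right; constructor
        · linear_combination ha' + hb'
        · linear_combination (a + a ^ 2) * hb' - ha' + a * b ^ 2 * ha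
    have hls : ∑ i, orbSum P (rep i) u' = -1 :=
      Lib.Char.ATI.lam_sum P ⟨⟨fun a b => Subtype.ext (h.comm _ a.2 _ b.2)⟩⟩ hrep1 huniq
        (fun e => hu1 (congrArg Subtype.val e))
    obtain ⟨i, j, hij, huniv⟩ := Finset.card_eq_two.1 (Finset.card_univ.trans hcard)
    rw [huniv, Finset.sum_pair hij] at hls ⊢
    rcases hval i with ⟨e1, e2⟩ | ⟨e1, e2⟩ <;> rcases hval j with ⟨e3, e4⟩ | ⟨e3, e4⟩ <;>
      rw [e1, e3] at hls <;> rw [e1, e2, e3, e4]
    · norm_num at hls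
    · ring
    · norm_num at hls

/-- The numerical part. -/
theorem arith {N k : ℕ} {A₁ A₂ A₃ E : ℤ} (hN : N = 36 * k) (hk : k % 9 = 1)
    (h₁ : A₁ % 9 = 1 ∧ A₁ ≠ 1 ∧ A₁ ^ 2 < N ∧ A₁ ∣ N) (h₂ : A₂ % 9 = 1 ∧ A₂ ≠ 1 ∧ A₂ ^ 2 < N ∧ A₂ ∣ N)
    (h₃ : A₃ % 9 = 1 ∧ A₃ ≠ 1 ∧ A₃ ^ 2 < N ∧ A₃ ∣ N) (hE : E = 1 + A₁ + A₂ + A₃) (hE2 : E ^ 2 < N)
    (heq : (162 : ℚ) = N * (1 + 1 / A₁ + 1 / A₂ + 1 / A₃ + 2 / E)) : N = 360 := by
  have hb : ∀ A : ℤ, A % 9 = 1 → A ≠ 1 → -(1 / 8 : ℚ) ≤ 1 / (A : ℚ) := by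
    intro A hA hA1
    rcases le_or_gt 0 A with h | h
    · have : (0 : ℚ) ≤ 1 / (A : ℚ) := by positivity
      linarith
    · have h8 : (A : ℚ) ≤ -8 := by exact_mod_cast (by omega : A ≤ -8)
      rw [le_div_iff_of_neg (by linarith)]
      linarith
  have hEb : -(2 / 5 : ℚ) ≤ 2 / (E : ℚ) := by
    rcases le_or_gt 0 E with h | h
    · have : (0 : ℚ) ≤ 2 / (E : ℚ) := by positivity
      linarith
    · have h5 : (E : ℚ) ≤ -5 := by exact_mod_cast (by omega : E ≤ -5)
      rw [le_div_iff_of_neg (by linarith)]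
      linarith
  have hle : (N : ℚ) ≤ 720 := by
    have := hb _ h₁.1 h₁.2.1
    have := hb _ h₂.1 h₂.2.1
    have := hb _ h₃.1 h₃.2.1
    have hN0 : (0 : ℚ) ≤ N := Nat.cast_nonneg _
    nlinarith
  have hle' : N ≤ 720 := by exact_mod_cast hle
  have hA : ∀ A : ℤ, A % 9 = 1 → A ≠ 1 → A ^ 2 < N → A ∣ N → N ≠ 360 → k = 19 ∧ A = 19 := by
    intro A hA hA1 hA2 hAd hne
    have hk' : k = 1 ∨ k = 19 := by omega
    have hlo : -27 < A := by nlinarith
    have hhi : A < 27 := by nlinarith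
    obtain ⟨b, rfl⟩ : ∃ b, A = 9 * b + 1 := ⟨A / 9, by omega⟩
    have hb1 : -4 < b := by omega
    have hb2 : b < 3 := by omega
    rcases hk' with rfl | rfl <;> subst hN <;> revert hA1 hA2 hAd <;> interval_cases b <;> norm_num
  by_contra hne
  obtain ⟨hk19, e1⟩ := hA _ h₁.1 h₁.2.1 h₁.2.2.1 h₁.2.2.2 hne
  obtain ⟨-, e2⟩ := hA _ h₂.1 h₂.2.1 h₂.2.2.1 h₂.2.2.2 hne
  obtain ⟨-, e3⟩ := hA _ h₃.1 h₃.2.1 h₃.2.2.1 h₃.2.2.2 hne
  subst e1 e2 e3 hE hk19 hN
  norm_num at hE2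

set_option maxHeartbeats 1600000 in
theorem Hyp.card_eq (h : Hyp P) [IsSimpleGroup G] : Nat.card G = 360 := by
  classical
  haveI : Fact (Nat.Prime 3) := ⟨Nat.prime_three⟩
  haveI := Fintype.ofFinite G
  have hna := h.not_comm
  have hperf := Lib.SmallSimple.commutator_eq_top hna
  obtain ⟨M, hM⟩ := Lib.Block.exists_isPModular (p := 3) Nat.prime_three
  haveI := hM.2.1
  have hab : IsMulCommutative (P : Subgroup G) := ⟨⟨fun a b => Subtype.ext (h.comm _ a.2 _ b.2)⟩⟩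
  have hP : Nat.card P = 9 := h.card
  have hlt := h.quot_lt
  have hgt := h.one_lt_quot hna
  obtain ⟨X, a, d, δ, ι, _, rep, μ, hδ, hinj, hμX, hblock, hrep1, huniq, hcard, hι2, ha0, h1X, ha1,
    hXv, hμv, heq, hμreg, hrel⟩ :=
    Lib.Char.ATI.ti_principal P hM hab (by omega) (m := quot P) (by omega) rfl h.frob
  rw [hP] at hcard
  set B := X ∪ Finset.univ.image μ with hBdef
  have hB : ∀ χ, χ ∈ B ↔ χ ∈ principalBlock M G := by
    intro χ; rw [hblock, hBdef]; simp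
  have hsumB : ∀ g : IrrCharacter G → ℂ, ∑ χ ∈ B, g χ = ∑ χ ∈ X, g χ + ∑ i, g (μ i) := by
    intro g
    rw [hBdef, Finset.sum_union ?_, Finset.sum_image fun i _ j _ e => hinj e]
    rw [Finset.disjoint_right]
    intro χ hχ
    obtain ⟨i, -, rfl⟩ := Finset.mem_image.1 hχ
    exact hμX i
  set n : IrrCharacter G → ℤ := fun χ => (charDegree (χ : G → ℂ) : ℤ) with hn
  have hdeg : ∀ χ : IrrCharacter G, (χ : G → ℂ) 1 = (n χ : ℂ) := fun χ => by
    rw [Lib.CharAux.charDegree_eq (Lib.Char.isCharacter_of_isIrr χ.2), hn]; simp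
  have hnpos : ∀ χ : IrrCharacter G, 0 < n χ := fun χ => by
    simpa [hn] using Lib.CharAux.charDegree_pos χ.2
  haveI : Nonempty ι := Fintype.card_pos_iff.1 (by omega)
  obtain ⟨i₀⟩ := (inferInstance : Nonempty ι)
  have hμdeg : ∀ i, n (μ i) = n (μ i₀) := fun i => by
    have := hμreg i i₀ 1 (by simp)
    rw [hdeg, hdeg] at this
    exact_mod_cast this
  have hone : n (Lib.Block.oneIrr G) = 1 := by
    have := hdeg (Lib.Block.oneIrr G)
    rw [Lib.Block.oneIrr_apply] at this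
    exact_mod_cast this.symm
  have hrel1 : ((Fintype.card ι : ℤ) * d - δ) * n (μ i₀) + ∑ χ ∈ X, a χ * n χ = 0 := by
    have := hrel i₀ 1 (by simp)
    simp only [hdeg] at this
    exact_mod_cast this
  have hlin : ∀ χ : IrrCharacter G, n χ = 1 → χ = Lib.Block.oneIrr G := fun χ e => by
    obtain ⟨l, hl⟩ := Lib.CharTools.irr_mem_linear χ.2 (by rw [hdeg, e]; simp)
    refine Subtype.ext (funext fun x => ?_)
    rw [Lib.Block.oneIrr_apply, hl,
      Lib.CharTools.linear_commutator (by rw [hperf]; exact Subgroup.mem_top x), Units.val_one]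
  have hsq : ∀ χ : IrrCharacter G, χ ≠ Lib.Block.oneIrr G → (n χ) ^ 2 < Nat.card G ∧ n χ ∣ Nat.card G := by
    intro χ hχ
    refine ⟨?_, by simp only [hn]; exact_mod_cast Lib.Char.charDegree_dvd_card χ.2⟩
    have h1 : charDegree (χ : G → ℂ) ^ 2 + charDegree (Lib.Block.oneIrr G : G → ℂ) ^ 2 ≤ Nat.card G := by
      rw [← Lib.Char.sum_charDegree_sq (G := G),
        ← Finset.sum_pair (f := fun ψ : IrrCharacter G => charDegree (ψ : G → ℂ) ^ 2) hχ]
      exact Finset.sum_le_sum_of_subset (Finset.subset_univ _)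
    have h2 : ((n χ) ^ 2 + (n (Lib.Block.oneIrr G)) ^ 2 : ℤ) ≤ (Nat.card G : ℤ) := by
      simp only [hn]; exact_mod_cast h1
    rw [hone] at h2
    linarith
  -- the structure constant
  have hvalX : ∀ χ ∈ X, ∀ y : (P : Subgroup G), (y : G) ≠ 1 → (χ : G → ℂ) y = a χ :=
    fun χ hχ y hy => hXv χ hχ y y.2 hy
  have hvalμ : ∀ i, ∀ y : (P : Subgroup G), (y : G) ≠ 1 →
      (μ i : G → ℂ) y = (d : ℂ) + (δ : ℂ) * orbSum P (rep i) y := hμv
  have hcount : ∀ s t : (P : Subgroup G), (s : G) ≠ 1 → (t : G) ≠ 1 →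
      81 * (Nat.card {p : G × G // IsConj (s : G) p.1 ∧ IsConj (s : G) p.2 ∧ p.1 * p.2 = (t : G)} : ℂ) =
      (Nat.card G : ℂ) * (∑ χ ∈ X, (a χ : ℂ) ^ 3 / (n χ : ℂ) +
        (∑ i, ((d : ℂ) + δ * orbSum P (rep i) s) * ((d : ℂ) + δ * orbSum P (rep i) s) *
          conj ((d : ℂ) + δ * orbSum P (rep i) t)) / (n (μ i₀) : ℂ)) := by
    intro s t hs ht
    rw [h.count hM B hB s.2 hs s.2 hs, hsumB, Finset.sum_div]
    congr 1
    congr 1
    · refine Finset.sum_congr rfl fun χ hχ => ?_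
      rw [hvalX χ hχ s hs, hvalX χ hχ t ht, hdeg, map_intCast]
      ring
    · refine Finset.sum_congr rfl fun i _ => ?_
      rw [hvalμ i s hs, hvalμ i t ht, hdeg, hμdeg i]
  have hGpos : (Nat.card G : ℂ) ≠ 0 := Nat.cast_ne_zero.2 Nat.card_pos.ne'
  have ha2 : ∀ χ ∈ X, 1 ≤ a χ ^ 2 := fun χ hχ => by
    have h2 : 0 < a χ ^ 2 := sq_pos_of_ne_zero (ha0 χ hχ)
    omega
  have hX : ∑ χ ∈ X, a χ ^ 2 = 1 + ∑ χ ∈ X.erase (Lib.Block.oneIrr G), a χ ^ 2 := by
    rw [← Finset.add_sum_erase X _ h1X, ha1, one_pow]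
  set Y := X.erase (Lib.Block.oneIrr G) with hY
  have hYX : ∀ χ ∈ Y, χ ∈ X ∧ χ ≠ Lib.Block.oneIrr G := fun χ hχ =>
    ⟨Finset.mem_of_mem_erase hχ, Finset.ne_of_mem_erase hχ⟩
  have hYsq : ∀ χ ∈ Y, 1 ≤ a χ ^ 2 := fun χ hχ => ha2 χ (hYX χ hχ).1
  have hYcard : (Y.card : ℤ) ≤ ∑ χ ∈ Y, a χ ^ 2 := by
    calc (Y.card : ℤ) = ∑ χ ∈ Y, (1 : ℤ) := by simp
      _ ≤ _ := Finset.sum_le_sum hYsq
  have hY0 : 0 ≤ ∑ χ ∈ Y, a χ ^ 2 := Finset.sum_nonneg fun χ _ => sq_nonneg _
  have hA : ∀ χ ∈ Y, (a χ = 1 ∨ a χ = -1) →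
      (a χ * n χ) % 9 = 1 ∧ a χ * n χ ≠ 1 := by
    intro χ hχ hpm
    obtain ⟨k, hk⟩ := h.degree_mod χ (fun y hy hy1 => hXv χ (hYX χ hχ).1 y hy hy1)
    refine ⟨?_, fun e => ?_⟩
    · change n χ = 9 * k + a χ at hk
      rw [hk]
      rcases hpm with e | e <;> rw [e] <;> omega
    · refine (hYX χ hχ).2 (hlin χ ?_)
      have := hnpos χ
      rcases hpm with e' | e' <;> rw [e'] at e <;> omega
  have hm : quot P = 2 ∨ quot P = 4 := by
    generalize quot P = m at hcard hlt hgt ⊢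
    interval_cases m <;> omega
  rcases hm with hm | hm
  · -- two cosets
    exfalso
    rw [hm] at hcard heq
    have hc4 : Fintype.card ι = 4 := by omega
    rw [hc4] at heq hrel1
    push_cast at heq hrel1
    obtain ⟨s, t, hs, ht, hzero, hth⟩ := h.two_data hm
    have hd : d = 0 := by
      rcases hδ with rfl | rfl <;> rcases lt_trichotomy d 0 with h0 | h0 | h0 <;> first | exact h0 | nlinarith
    subst hd
    have hY1 : ∑ χ ∈ Y, a χ ^ 2 = 1 := by linarith
    obtain ⟨χ, hχY⟩ : ∃ χ, Y = {χ} := by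
      rw [← Finset.card_eq_one]
      have : Y.card ≠ 0 := fun e => by rw [Finset.card_eq_zero.1 e] at hY1; simp at hY1
      omega
    have hχ : χ ∈ Y := by rw [hχY]; exact Finset.mem_singleton_self χ
    rw [hχY, Finset.sum_singleton] at hY1
    have hpm : a χ = 1 ∨ a χ = -1 := sq_eq_one_iff.1 hY1
    obtain ⟨hA1, hA2⟩ := hA χ hχ hpm
    rw [← Finset.add_sum_erase X _ h1X, ← hY, hχY, Finset.sum_singleton, ha1, hone] at hrel1
    have hc := hcount s t hs ht
    rw [hzero, ← Finset.add_sum_erase X _ h1X, ← hY, hχY, Finset.sum_singleton, ha1, hone] at hc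
    have hs4 : ∑ i, (((0 : ℤ) : ℂ) + δ * orbSum P (rep i) s) * (((0 : ℤ) : ℂ) + δ * orbSum P (rep i) s) *
        conj (((0 : ℤ) : ℂ) + δ * orbSum P (rep i) t) = -4 * (δ : ℂ) ^ 3 := by
      rw [← hth rep hrep1 huniq, Finset.sum_mul]
      refine Finset.sum_congr rfl fun i _ => ?_
      rw [map_add, map_mul, map_intCast, map_intCast]
      push_cast
      ring
    rw [hs4] at hc
    have he := hnpos (μ i₀)
    have hm0 := hnpos χ
    generalize n χ = m at hrel1 hA2 hc hm0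
    generalize n (μ i₀) = e at hrel1 he hc
    simp only [Nat.cast_zero, mul_zero, zero_eq_mul, hGpos, false_or] at hc
    set A := a χ * m with hAdef
    have hA0 : A ≠ 0 := mul_ne_zero (ha0 χ (hYX χ hχ).1) (by omega)
    have hE : δ * e = 1 + A := by linarith
    have key : ((1 : ℂ) + 1 / (A : ℂ) + -4 / ((1 + A : ℤ) : ℂ)) = 0 := by
      rw [← hE, hAdef]
      push_cast at hc ⊢
      rcases hpm with e1 | e1 <;> rw [e1] at hc ⊢ <;> rcases hδ with rfl | rfl <;> push_cast at hc ⊢ <;>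
        simp only [one_mul, neg_mul, div_neg, neg_div, one_div] at hc ⊢ <;> linear_combination hc
    have hA1' : (1 : ℤ) + A ≠ 0 := by
      rw [← hE]
      rcases hδ with rfl | rfl <;> omega
    have h0 : ((A : ℂ) - 1) ^ 2 = 0 := by
      have hAc : (A : ℂ) ≠ 0 := Int.cast_ne_zero.2 hA0
      have hBc : (1 : ℂ) + (A : ℂ) ≠ 0 := by exact_mod_cast hA1'
      push_cast at key
      field_simp at key
      linear_combination key
    exact hA2 (by exact_mod_cast sub_eq_zero.1 ((pow_eq_zero_iff two_ne_zero).1 h0))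
  · -- four cosets
    rw [hm] at hcard heq
    have hc2 : Fintype.card ι = 2 := by omega
    rw [hc2] at heq hrel1
    push_cast at heq hrel1
    obtain ⟨s, t, hs, ht, htwo, hth⟩ := h.four_data hm
    have hd : d = 0 ∨ d = δ := by
      by_contra hcon
      push Not at hcon
      have h1 : 2 ≤ d * (d - δ) := by
        rcases hδ with rfl | rfl
        · rcases lt_or_ge d 1 with h0 | h0
          · nlinarith [show d ≤ -1 by omega]
          · nlinarith [show (2 : ℤ) ≤ d by omega]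
        · rcases lt_or_ge d 0 with h0 | h0
          · nlinarith [show d ≤ -2 by omega]
          · nlinarith [show (1 : ℤ) ≤ d by omega]
      nlinarith
    have hdd : 2 * d ^ 2 - 2 * δ * d = 0 := by rcases hd with rfl | rfl <;> ring
    have hY3 : ∑ χ ∈ Y, a χ ^ 2 = 3 := by linarith
    have hpm : ∀ χ ∈ Y, a χ = 1 ∨ a χ = -1 := by
      intro χ hχ
      have h1 := Finset.single_le_sum (fun ψ _ => sq_nonneg (a ψ)) hχ
      have h2 := hYsq χ hχ
      have h3 : a χ ^ 2 ≤ 3 := h1.trans hY3.le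
      have h4 : -2 < a χ ∧ a χ < 2 := ⟨by nlinarith, by nlinarith⟩
      have h5 := ha0 χ (hYX χ hχ).1
      omega
    have hc3 : Y.card = 3 := by
      have : ∑ χ ∈ Y, a χ ^ 2 = ∑ χ ∈ Y, (1 : ℤ) :=
        Finset.sum_congr rfl fun χ hχ => sq_eq_one_iff.2 (hpm χ hχ)
      rw [hY3, Finset.sum_const, nsmul_one] at this
      exact_mod_cast this.symm
    obtain ⟨χ₁, χ₂, χ₃, h12, h13, h23, hYe⟩ := Finset.card_eq_three.1 hc3
    have hm1 : χ₁ ∈ Y := by rw [hYe]; simp
    have hm2 : χ₂ ∈ Y := by rw [hYe]; simp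
    have hm3 : χ₃ ∈ Y := by rw [hYe]; simp
    have hsumY : ∀ {R : Type} [AddCommMonoid R] (g : IrrCharacter G → R),
        ∑ χ ∈ Y, g χ = g χ₁ + g χ₂ + g χ₃ := by
      intro R _ g
      rw [hYe, Finset.sum_insert (by simp [h12, h13]), Finset.sum_pair h23, add_assoc]
    set E := (δ - 2 * d) * n (μ i₀) with hE
    have hE' : E = 1 + a χ₁ * n χ₁ + a χ₂ * n χ₂ + a χ₃ * n χ₃ := by
      rw [← Finset.add_sum_erase X _ h1X, ← hY, hsumY, ha1, hone] at hrel1
      linarith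
    have hδ' : δ - 2 * d = 1 ∨ δ - 2 * d = -1 := by
      rcases hd with rfl | rfl <;> rcases hδ with rfl | rfl <;> norm_num
    have habs : ∀ χ : IrrCharacter G, ∀ c : ℤ, (c = 1 ∨ c = -1) →
        (c * n χ) ^ 2 = n χ ^ 2 ∧ (c * n χ ∣ (Nat.card G : ℤ) ↔ n χ ∣ (Nat.card G : ℤ)) := by
      rintro χ c (rfl | rfl) <;> simp [neg_dvd]
    have hmem : ∀ χ ∈ Y, (a χ * n χ) % 9 = 1 ∧ a χ * n χ ≠ 1 ∧
        (a χ * n χ) ^ 2 < (Nat.card G : ℤ) ∧ a χ * n χ ∣ (Nat.card G : ℤ) := by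
      intro χ hχ
      obtain ⟨h1, h2⟩ := hA χ hχ (hpm χ hχ)
      obtain ⟨h3, h4⟩ := hsq χ (hYX χ hχ).2
      obtain ⟨e1, e2⟩ := habs χ _ (hpm χ hχ)
      exact ⟨h1, h2, e1 ▸ h3, e2.2 h4⟩
    have hE2 : E ^ 2 < (Nat.card G : ℤ) := by
      rw [hE, (habs _ _ hδ').1]
      exact (hsq _ fun e => hμX i₀ (by rw [e]; exact h1X)).1
    have hidx : Nat.card G = 36 * (Subgroup.normalizer ((P : Subgroup G) : Set G)).index := by
      rw [← (Subgroup.normalizer ((P : Subgroup G) : Set G)).card_mul_index, h.card_normalizer, hm]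
    refine arith hidx h.index_normalizer (hmem _ hm1) (hmem _ hm2) (hmem _ hm3) hE' hE2 ?_
    have hc := hcount s t hs ht
    rw [htwo, ← Finset.add_sum_erase X _ h1X, ← hY, hsumY, ha1, hone] at hc
    rw [hth rep hc2 hrep1 huniq (fun p q => ((d : ℂ) + δ * p) * ((d : ℂ) + δ * p) * conj ((d : ℂ) + δ * q))] at hc
    simp only [map_add, map_mul, map_neg, map_intCast, map_one, map_ofNat] at hc
    have hEc : ((d : ℂ) + δ * 1) * ((d : ℂ) + δ * 1) * ((d : ℂ) + δ * -2) +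
        ((d : ℂ) + δ * -2) * ((d : ℂ) + δ * -2) * ((d : ℂ) + δ * 1) = 2 * ((δ - 2 * d : ℤ) : ℂ) := by
      rcases hd with rfl | rfl <;> rcases hδ with rfl | rfl <;> push_cast <;> ring
    rw [hEc] at hc
    have inv1 : ∀ c m : ℤ, (c = 1 ∨ c = -1) → (c : ℂ) ^ 3 / (m : ℂ) = 1 / ((c * m : ℤ) : ℂ) := by
      rintro c m (rfl | rfl) <;> push_cast <;> simp [neg_div, div_neg, one_div] <;> ring
    have inv2 : ∀ c m : ℤ, (c = 1 ∨ c = -1) → 2 * (c : ℂ) / (m : ℂ) = 2 / ((c * m : ℤ) : ℂ) := by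
      rintro c m (rfl | rfl) <;> push_cast <;> simp [neg_div, div_neg] <;> ring
    rw [inv1 _ _ (hpm _ hm1), inv1 _ _ (hpm _ hm2), inv1 _ _ (hpm _ hm3), inv2 _ _ hδ', ← hE] at hc
    push_cast at hc
    have hq : ((162 : ℚ) : ℂ) = (((Nat.card G : ℚ) * (1 + 1 / ((a χ₁ * n χ₁ : ℤ) : ℚ) +
        1 / ((a χ₂ * n χ₂ : ℤ) : ℚ) + 1 / ((a χ₃ * n χ₃ : ℤ) : ℚ) + 2 / (E : ℚ)) : ℚ) : ℂ) := by
      push_cast
      linear_combination hc
    exact_mod_cast hq

end Cfsg.Agent.Lib.ElemNine
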